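import Mathlib
import Cfsg.Agent.H9.CG
import Cfsg.Agent.H29.Ext

set_option autoImplicit false
set_option maxRecDepth 100000
set_option Elab.async false
set_option linter.all false

namespace H9.M24A

open H29 H9.MX

def ivl : List ℕ := [0, 2, 1, 3, 5, 4]
def cols : List ℕ := [0, 1, 2, 4, 5]
def hcols : List ℕ := [1, 4]
def G0 : List (List ℕ) := [[1, 1, 1],
 [0, 1, 0, 1, 0, 1, 0, 1, 0, 1, 0, 1, 0, 1, 0, 1, 0, 1, 0, 1, 0, 1, 0, 1, 0, 1, 0, 1, 0, 1, 0, 1, 0, 1, 0, 1, 0, 1, 0, 1, 0, 1, 0, 1, 0, 1],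
 [0, 2, 0, 1, 0, 2, 0, 1, 0, 2, 0, 1, 0, 2, 0, 1, 0, 2, 0, 1, 0, 2, 0, 1, 0, 2, 0, 1, 0, 2, 0, 1, 0, 2, 0, 1, 0, 2, 0, 1, 0, 2, 0, 1, 0, 2, 0, 1],
 [0, 2, 0, 2, 0, 1, 0, 1, 0, 2, 0, 2, 0, 1, 0, 1, 0, 2, 0, 2, 0, 1, 0, 1, 0, 2, 0, 2, 0, 1, 0, 1, 0, 2, 0, 2, 0, 1, 0, 1],
 [0, 1, 0, 1, 0, 2, 0, 1, 0, 2, 0, 1, 0, 2, 0, 1, 0, 1, 0, 2, 0, 1, 0, 2, 0, 1, 0, 2, 0, 1, 0, 1, 0, 2, 0, 1, 0, 2, 0, 1, 0, 2, 0, 1, 0, 1, 0, 2, 0, 1, 0, 2, 0, 1, 0, 2],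
 [0, 1, 0, 1, 0, 2, 0, 1, 0, 1, 0, 2, 0, 1, 0, 1, 0, 2, 0, 1, 0, 2, 0, 2, 0, 1, 0, 2, 0, 2, 0, 1, 0, 2, 0, 2],
 [5, 0, 1, 0, 1, 0, 2, 0]]
def R0 : List (List ℕ) := G0
def w0 : List ℕ := [5, 5, 5]
def R1 : List (List ℕ) := R0 ++ [w0]
def w1 : List ℕ := [0, 4, 2, 0, 4, 2]
def R2 : List (List ℕ) := R1 ++ [w1]
def w2 : List ℕ := [0, 4, 0, 2, 0, 2, 0, 4, 4, 2]
def R3 : List (List ℕ) := R2 ++ [w2]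
def w3 : List ℕ := [1, 0, 2, 2, 0, 5, 0, 1, 4, 0]
def R4 : List (List ℕ) := R3 ++ [w3]
def w4 : List ℕ := [0, 4, 1, 0, 1, 0, 2, 0, 1, 5, 0, 1, 1, 0, 2, 0, 2, 0, 1, 0, 2, 0, 2, 5]
def R5 : List (List ℕ) := R4 ++ [w4]
def w5 : List ℕ := [0, 5, 1, 0, 2, 0, 2, 5, 0, 4, 1, 0, 1, 0, 2, 4]
def R6 : List (List ℕ) := R5 ++ [w5]
def w6 : List ℕ := [5, 2, 0, 4, 0, 2, 0, 2, 0]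
def R7 : List (List ℕ) := R6 ++ [w6]
def w7 : List ℕ := [0, 4, 0, 1, 0, 5, 0, 1, 5, 2]
def R8 : List (List ℕ) := R7 ++ [w7]
def w8 : List ℕ := [5, 2, 0, 4, 0, 5, 0, 1, 5, 2, 0]
def R9 : List (List ℕ) := R8 ++ [w8]
def w9 : List ℕ := [0, 5, 0, 5, 0, 5, 0, 4, 0, 4, 0, 4]
def R10 : List (List ℕ) := R9 ++ [w9]
def w10 : List ℕ := [2, 0, 5, 2, 5, 0, 5, 0, 4, 0, 4, 1, 5]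
def R11 : List (List ℕ) := R10 ++ [w10]
def w11 : List ℕ := [5, 0, 5, 0, 4, 1, 5, 0, 1, 0, 4, 0, 5, 0]
def R12 : List (List ℕ) := R11 ++ [w11]
def w12 : List ℕ := [5, 0, 1, 0, 4, 0, 4, 0, 5, 0, 5, 0, 5, 1]
def R13 : List (List ℕ) := R12 ++ [w12]
def w13 : List ℕ := [5, 0, 2, 5, 0, 1, 0, 5, 0, 5, 0, 5, 0, 4, 1]
def R14 : List (List ℕ) := R13 ++ [w13]
def w14 : List ℕ := [0, 1, 0, 2, 0, 4, 0, 4, 0, 4, 0, 4, 0, 5, 0, 5, 1]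
def R15 : List (List ℕ) := R14 ++ [w14]
def w15 : List ℕ := [2, 0, 2, 5, 0, 4, 1, 0, 1, 0, 2, 5, 2, 0, 4, 2, 5, 1, 0]
def R16 : List (List ℕ) := R15 ++ [w15]
def w16 : List ℕ := [5, 1, 5, 1, 0, 1, 0, 2, 0, 2, 0, 1, 0, 1, 0, 2, 0, 2, 4, 2, 0, 1]
def R17 : List (List ℕ) := R16 ++ [w16]
def w17 : List ℕ := [4, 2, 0, 1, 5, 0, 4, 2, 4, 2, 4, 2]
def R18 : List (List ℕ) := R17 ++ [w17]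
def w18 : List ℕ := [2, 4, 2, 4, 2, 4, 2, 4, 2, 4]
def R19 : List (List ℕ) := R18 ++ [w18]
def w19 : List ℕ := [4, 2, 4, 1, 0, 4, 0, 2, 0, 2, 0, 2, 4, 2, 4, 2]
def R20 : List (List ℕ) := R19 ++ [w19]
def w20 : List ℕ := [5, 1, 5, 1, 0, 4, 0, 4, 0, 5, 0, 5, 0, 2, 0, 1, 5, 1]
def R21 : List (List ℕ) := R20 ++ [w20]
def w21 : List ℕ := [4, 0, 4, 4, 0, 4, 0, 5, 0, 5, 0, 5, 2, 0, 4, 2, 5, 0, 4, 0]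
def R22 : List (List ℕ) := R21 ++ [w21]
def w22 : List ℕ := [2, 0, 5, 2, 0, 4, 4, 0, 5, 0, 5, 5, 0, 5, 0, 5, 0, 4, 0, 4, 4, 1, 5]
def R23 : List (List ℕ) := R22 ++ [w22]
def w23 : List ℕ := [4, 0, 1, 4, 1, 0, 2, 0, 1, 0, 2, 0, 1, 0, 2, 0, 1, 0, 2, 0, 1, 0, 2, 0, 1, 0, 2, 0, 1, 0, 2, 0, 1, 0, 2, 0, 1, 0, 2, 0, 1, 0, 2]
def R24 : List (List ℕ) := R23 ++ [w23]
def w24 : List ℕ := [0, 2, 4, 0, 1, 0, 2, 2, 0, 1, 0, 2, 0, 1, 0, 2, 0, 1, 0, 2, 0, 1, 0, 2, 0, 1, 0, 2, 0, 1, 0, 2, 0, 1, 0, 2, 0, 1, 0, 2, 4, 0, 1, 4, 1]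
def R25 : List (List ℕ) := R24 ++ [w24]
def w25 : List ℕ := [4, 0, 5, 0, 1, 1, 0, 2, 0, 1, 0, 2, 0, 1, 0, 2, 0, 1, 0, 2, 0, 1, 0, 2, 0, 1, 0, 2, 0, 1, 0, 2, 0, 1, 0, 2, 0, 1, 0, 2, 0, 1, 0, 2, 2, 0]
def R26 : List (List ℕ) := R25 ++ [w25]
def w26 : List ℕ := [4, 2, 4, 0, 4, 0, 4, 0, 5, 0, 2, 0, 4, 1, 0]
def R27 : List (List ℕ) := R26 ++ [w26]
def w27 : List ℕ := [0, 4, 0, 4, 1, 1, 0, 2, 0, 1, 0, 2, 0, 1, 0, 2, 0, 1, 0, 2, 0, 1, 0, 2, 0, 1, 0, 2, 0, 1, 0, 2, 0, 1, 0, 2, 0, 1, 0, 2, 4, 0, 1, 0, 5, 0, 5]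
def R28 : List (List ℕ) := R27 ++ [w27]
def w28 : List ℕ := [5, 0, 1, 1, 0, 2, 0, 2, 0, 1, 0, 2, 0, 1, 0, 2, 0, 1, 0, 2, 0, 2, 0, 1, 0, 2, 0, 1, 0, 2, 0, 1, 0, 2, 0, 2, 5, 0, 1, 1, 0, 2, 0, 1, 0, 2, 0, 2, 0, 1, 0, 2]
def R29 : List (List ℕ) := R28 ++ [w28]
def w29 : List ℕ := [0, 1, 4, 1, 0, 2, 0, 1, 0, 2, 4, 0, 1, 0, 2, 2, 0, 1, 0, 2, 0, 1, 0, 2, 0, 1, 0, 2, 0, 1, 0, 2, 0, 1, 0, 2, 0, 1, 0, 2, 0, 1, 0, 2, 4]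
def R30 : List (List ℕ) := R29 ++ [w29]
def w30 : List ℕ := [5, 1, 5, 2, 0, 1, 0, 2, 0, 2, 0, 1, 0, 2, 0, 1, 0, 2, 0, 1, 0, 2, 0, 2, 5, 0, 1, 1, 0, 2, 0, 1, 0, 2, 0, 2, 0, 1, 0, 2, 5, 0, 1, 5, 0, 5, 0]
def R31 : List (List ℕ) := R30 ++ [w30]
def w31 : List ℕ := [5, 0, 5, 1, 5, 2, 0, 1, 0, 2, 0, 2, 0, 1, 0, 2, 0, 1, 0, 2, 0, 1, 0, 2, 0, 2, 5, 0, 1, 1, 0, 2, 0, 1, 0, 2, 0, 2, 0, 1, 0, 2, 2]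
def R32 : List (List ℕ) := R31 ++ [w31]
def w32 : List ℕ := [0, 5, 0, 5, 0, 5, 5, 0, 5, 0, 4, 0, 4, 0, 4, 0, 1, 5, 0, 1, 0, 4]
def R33 : List (List ℕ) := R32 ++ [w32]
def w33 : List ℕ := [5, 0, 2, 4, 2, 4, 2, 4, 2, 2, 0, 1, 0, 2, 0, 2, 0, 1, 0, 2, 0, 1, 0, 2, 0, 1, 0, 2, 0, 2, 5, 0, 1, 1, 0, 2, 0, 1, 0, 2, 0, 2, 0, 1, 0, 2, 2]
def R34 : List (List ℕ) := R33 ++ [w33]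
def w34 : List ℕ := [0, 4, 2, 4, 0, 4, 1, 0, 1, 0, 2, 5, 0, 2, 0, 4, 1]
def R35 : List (List ℕ) := R34 ++ [w34]
theorem hii : ∀ c, ivOf ivl (ivOf ivl c) = c := ivOf_ivOf (by decide +kernel)

end H9.M24A
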