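import Mathlib
import Cfsg.Agent.H9.CG
import Cfsg.Agent.H9.M24A.D0
import Cfsg.Agent.H9.M24A.R

set_option autoImplicit false
set_option maxRecDepth 100000
set_option Elab.async false
set_option linter.all false

namespace H9.M24A

open H29 H9.MX

noncomputable def nl : List Net := [n0, n1, n2, Net.nil, n4, n5]
noncomputable def T : TCData := ⟨42504, 42504, 16, 9, nth Net.nil nl, ivOf ivl, cols, hcols, R35,
  nth [] [t0, t1, t2, [], t4, t5], nth 0 [d0, d1, d2, 0, d4, d5]⟩
theorem hn : NetsOK 42504 (nth Net.nil nl) := netsOK_of_all (by decide +kernel)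

end H9.M24A
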